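import Mathlib.AlgebraicGeometry.Noetherian
import Mathlib.AlgebraicGeometry.Properties
import Mathlib.AlgebraicGeometry.ResidueField
import Mathlib.RingTheory.LocalRing.ResidueField.Ideal
import Mathlib.RingTheory.Nilpotent.Lemmas

/-!
# Maps from reduced schemes whose image has no specializations

A map from a reduced scheme to a locally Noetherian scheme whose image has no nontrivial specializations
factors, locally on the source, through spectra of fields.
-/

universe u

open CategoryTheory AlgebraicGeometry TopologicalSpace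

set_option backward.isDefEq.respectTransparency false
set_option autoImplicit false

namespace Groth.Agent.ResFactor

/-- An element killed at all primes below `q` is killed by some element outside `q`. -/
theorem exists_mul_eq_zero {A : Type*} [CommRing A] [_root_.IsReduced A] (q : Ideal A) [q.IsPrime] (a : A)
    (h : ∀ p : Ideal A, p.IsPrime → p ≤ q → a ∈ p) : ∃ g, g ∉ q ∧ g * a = 0 := by
  let L := Localization.AtPrime q
  have hn : algebraMap A L a ∈ nilradical L := by
    rw [nilradical_eq_sInf]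
    refine Submodule.mem_sInf.2 fun (P : Ideal L) hP => ?_
    have hP' : P.IsPrime := hP
    obtain ⟨h1, h2⟩ := (IsLocalization.isPrime_iff_isPrime_disjoint q.primeCompl L P).1 hP'
    exact Ideal.mem_comap.1 (h _ h1 fun x hx => by
      by_contra hxq
      exact Set.disjoint_left.1 h2 hxq hx)
  have : _root_.IsReduced L := inferInstance
  rw [nilradical_eq_zero, Ideal.zero_eq_bot, Ideal.mem_bot] at hn
  obtain ⟨⟨g, hg⟩, hga⟩ := (IsLocalization.map_eq_zero_iff q.primeCompl L a).1 hn
  exact ⟨g, hg, hga⟩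

/-- Locally on the source, such a map factors through the spectrum of a field. -/
theorem exists_open_factor {T U : Scheme.{u}} [IsLocallyNoetherian U] [AlgebraicGeometry.IsReduced T]
    (h : T ⟶ U) (hh : ∀ t t' : ↥T, h t ⤳ h t' → h t = h t') (t : ↥T) :
    ∃ (V : T.Opens) (K : CommRingCat.{u}) (j : Spec K ⟶ U) (l : V.toScheme ⟶ Spec K),
      t ∈ V ∧ IsField K ∧ l ≫ j = V.ι ≫ h := by
  classical
  obtain ⟨W, hW, hhtW, -⟩ := exists_isAffineOpen_mem_and_subset (X := U) (x := h t) (U := ⊤) trivial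
  obtain ⟨V₀, hV₀, htV₀, hV₀W⟩ := exists_isAffineOpen_mem_and_subset (X := T) (x := t) (U := h ⁻¹ᵁ W) hhtW
  let φ := h.appLE W V₀ hV₀W
  have hnat : Spec.map φ ≫ hW.fromSpec = hV₀.fromSpec ≫ h := hW.SpecMap_appLE_fromSpec h hV₀ hV₀W
  have hpt : ∀ q : ↥(Spec Γ(T, V₀)), h (hV₀.fromSpec q) = hW.fromSpec (Spec.map φ q) := fun q => by
    rw [← Scheme.Hom.comp_apply, ← hnat, Scheme.Hom.comp_apply]
  let q₀ := hV₀.primeIdealOf ⟨t, htV₀⟩
  have hq₀ : hV₀.fromSpec q₀ = t := hV₀.fromSpec_primeIdealOf ⟨t, htV₀⟩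
  let P : PrimeSpectrum Γ(U, W) := Spec.map φ q₀
  have hinj : Function.Injective hW.fromSpec := hW.fromSpec.isOpenEmbedding.injective
  -- primes mapping to a specialization-comparable point map to `P`
  have hmin : ∀ q : PrimeSpectrum Γ(T, V₀), (q.asIdeal.comap φ.hom ≤ P.asIdeal ∨
      P.asIdeal ≤ q.asIdeal.comap φ.hom) → q.asIdeal.comap φ.hom = P.asIdeal := by
    intro q hq
    suffices hW.fromSpec (Spec.map φ q) = hW.fromSpec P by
      exact congrArg PrimeSpectrum.asIdeal (hinj this)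
    rw [← hpt, ← hpt]
    rcases hq with hq | hq
    · refine hh _ _ ?_
      rw [hpt, hpt]
      exact ((PrimeSpectrum.le_iff_specializes (Spec.map φ q : PrimeSpectrum Γ(U, W)) P).1 hq).map
        hW.fromSpec.continuous
    · refine (hh _ _ ?_).symm
      rw [hpt, hpt]
      exact ((PrimeSpectrum.le_iff_specializes P (Spec.map φ q : PrimeSpectrum Γ(U, W))).1 hq).map
        hW.fromSpec.continuous
  have : IsNoetherianRing Γ(U, W) := IsLocallyNoetherian.component_noetherian ⟨W, hW⟩
  have : _root_.IsReduced Γ(T, V₀) := inferInstance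
  obtain ⟨s, hs⟩ := IsNoetherian.noetherian P.asIdeal
  have hg : ∀ p ∈ s, ∃ g, g ∉ q₀.asIdeal ∧ g * φ.hom p = 0 := fun p hp => by
    refine exists_mul_eq_zero q₀.asIdeal (φ.hom p) fun q hq hle => ?_
    show p ∈ q.comap φ.hom
    rw [hmin ⟨q, hq⟩ (Or.inl (Ideal.comap_mono hle))]
    exact hs ▸ Ideal.subset_span hp
  choose! g hg0 hg1 using hg
  let G := ∏ p ∈ s, g p
  have hG : G ∉ q₀.asIdeal := fun hmem => by
    obtain ⟨p, hp, hp'⟩ := q₀.isPrime.prod_mem_iff.1 hmem
    exact hg0 p hp hp'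
  have htG : t ∈ T.basicOpen G := by
    rw [← hq₀]
    change q₀ ∈ hV₀.fromSpec ⁻¹ᵁ T.basicOpen G
    rw [hV₀.fromSpec_preimage_basicOpen, PrimeSpectrum.mem_basicOpen]
    exact hG
  have hVG := hV₀.basicOpen G
  have hVW : T.basicOpen G ≤ h ⁻¹ᵁ W := (T.basicOpen_le G).trans hV₀W
  let res : Γ(T, V₀) ⟶ Γ(T, T.basicOpen G) := T.presheaf.map (homOfLE (T.basicOpen_le G)).op
  have hloc := hV₀.isLocalization_basicOpen G
  let φG := h.appLE W (T.basicOpen G) hVW
  have hφG : φG = φ ≫ res := (Scheme.Hom.appLE_map h hV₀W (homOfLE (T.basicOpen_le G)).op).symm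
  have h0 : ∀ r ∈ P.asIdeal, φG.hom r = 0 := by
    intro r hr
    have h' : (P.asIdeal : Submodule Γ(U, W) Γ(U, W)) ≤ RingHom.ker φG.hom := by
      rw [← hs]
      refine Ideal.span_le.2 fun p hp => ?_
      have hres : IsUnit (res.hom G) := IsLocalization.Away.algebraMap_isUnit (S := Γ(T, T.basicOpen G)) G
      have : res.hom (G * φ.hom p) = 0 := by
        obtain ⟨c, hc⟩ : g p ∣ G := Finset.dvd_prod_of_mem g hp
        have e0 : G * φ.hom p = 0 := by rw [hc, mul_right_comm, hg1 p hp, zero_mul]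
        rw [e0, map_zero]
      rw [map_mul] at this
      show φG.hom p = 0
      rw [hφG]
      exact (hres.mul_right_eq_zero).1 this
    exact h' hr
  have h1 : ∀ r, r ∉ P.asIdeal → IsUnit (φG.hom r) := by
    intro r hr
    rw [isUnit_iff_exists_and_exists]
    by_contra hu
    rw [← isUnit_iff_exists_and_exists] at hu
    obtain ⟨m, hm, hrm⟩ := exists_max_ideal_of_mem_nonunits hu
    have hm' : m.IsPrime := hm.isPrime
    let q : PrimeSpectrum Γ(T, V₀) := ⟨m.comap res.hom, inferInstance⟩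
    have e : P.asIdeal ≤ q.asIdeal.comap φ.hom := fun x hx => by
      show res.hom (φ.hom x) ∈ m
      have := h0 x hx
      rw [hφG] at this
      exact this ▸ m.zero_mem
    refine hr ((hmin q (Or.inr e)).le ?_)
    show res.hom (φ.hom r) ∈ m
    rw [hφG] at hrm
    exact hrm
  let K := CommRingCat.of P.asIdeal.ResidueField
  let ψ : Γ(U, W) ⟶ K := CommRingCat.ofHom (algebraMap _ _)
  let χ : K ⟶ Γ(T, T.basicOpen G) := CommRingCat.ofHom
    (Ideal.ResidueField.lift P.asIdeal φG.hom (fun r hr => h0 r hr) h1)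
  have hψχ : ψ ≫ χ = φG := by
    ext r
    exact Ideal.ResidueField.lift_algebraMap P.asIdeal φG.hom (fun r hr => h0 r hr) h1 r
  refine ⟨T.basicOpen G, K, Spec.map ψ ≫ hW.fromSpec, hVG.isoSpec.hom ≫ Spec.map χ, htG,
    Field.toIsField _, ?_⟩
  rw [Category.assoc, ← Spec.map_comp_assoc, hψχ, hW.SpecMap_appLE_fromSpec h hVG hVW,
    IsAffineOpen.isoSpec_hom_fromSpec_assoc]

end Groth.Agent.ResFactor
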