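import Groth.Agent.ResFactor.Sch
import Groth.Agent.AlgSpD.OnePoint
import Groth.Agent.AlgSpD.HasAt
import Groth.Agent.AlgSp.NoethFib
import Groth.Agent.AlgSp.InfGlue
import Groth.Agent.AlgSpB.FieldPoints
import Groth.Agent.AlgSpB.Open

/-!
# Factoring through residual spaces
-/

universe u

open CategoryTheory CategoryTheory.Limits AlgebraicGeometry Opposite TopologicalSpace

set_option backward.isDefEq.respectTransparency false
set_option autoImplicit false
set_option linter.style.haveILetI false

namespace Groth.Agent.ResFactor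

open Groth.Agent
open _root_.AlgSp

variable {S : Scheme.{u}}

/-- In a locally Noetherian scheme, distinct comparable points have different local dimensions. -/
theorem eq_of_specializes_of_dim_eq {V : Scheme.{u}} [IsLocallyNoetherian V] {v w : ↥V} (hvw : v ⤳ w)
    (h : ringKrullDim ↥(V.presheaf.stalk v) = ringKrullDim ↥(V.presheaf.stalk w)) : v = w := by
  by_contra hne
  have hlt : w < v := lt_iff_le_not_ge.2 ⟨Scheme.le_iff_specializes.2 hvw,
    fun h' => hne (hvw.antisymm (Scheme.le_iff_specializes.1 h')).eq⟩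
  rw [ringKrullDim_stalk_eq_coheight, ringKrullDim_stalk_eq_coheight, WithBot.coe_inj] at h
  have hfin : Order.coheight v < ⊤ := by
    have := (ringKrullDim_lt_top (R := ↥(V.presheaf.stalk v)))
    rw [ringKrullDim_stalk_eq_coheight] at this
    exact WithBot.coe_lt_coe.1 this
  exact (Order.coheight_strictAnti hlt hfin).ne h

/-- Points of a chart over the same point of a locally Noetherian space are not comparable. -/
theorem eq_of_specializes_of_ofPt_eq {F : AlgSp.Sp S} {U : Over S} {a : (AlgSp.yon S).obj U ⟶ F}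
    (ha : AlgSp.RepWith @Etale a) [IsLocallyNoetherian U.left] {v w : ↥U.left} (hvw : v ⤳ w)
    (h : AlgSp.Points.ofPt a v = AlgSp.Points.ofPt a w) : v = w := by
  refine eq_of_specializes_of_dim_eq hvw ?_
  exact ((AlgSpD.hasAt_iff_chart (AlgSpD.stalkDim_invariant (ringKrullDim ↥(U.left.presheaf.stalk v))) ha w).1
    (h ▸ (AlgSpD.hasAt_iff_chart (AlgSpD.stalkDim_invariant (ringKrullDim ↥(U.left.presheaf.stalk v))) ha v).2
      rfl)).symm

/-- A field-valued point with image the point of a monomorphism factors through it. -/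
theorem exists_lift_fieldPt {X Z : AlgSp.Space S} (i : Z ⟶ X) [Mono i.hom] {x : AlgSp.Points X.obj}
    (hi : x ∈ Set.range (AlgSp.Points.map i.hom)) {K : Type u} [Field K]
    (str : Spec (CommRingCat.of K) ⟶ S) (q : (AlgSp.yon S).obj (Over.mk str) ⟶ X.obj)
    (hq : AlgSp.Points.ofPt q (IsLocalRing.closedPoint K) = x) :
    ∃ m : (AlgSp.yon S).obj (Over.mk str) ⟶ Z.obj, m ≫ i.hom = q := by
  obtain ⟨z, hz⟩ := hi
  let P : AlgSp.Space S := ⟨pullback i.hom q,
    Groth.Agent.AlgSp.isAlgSpace_pullback X.property Z.property (AlgSp.IsAlgSpace.yon_obj _) i.hom q⟩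
  have : Nonempty (AlgSp.Points P.obj) := by
    obtain ⟨w, -, -⟩ := AlgSpB.exists_of_isPullback (IsPullback.of_hasPullback i.hom q) z
      (AlgSp.Points.ofScheme (Over.mk str) (IsLocalRing.closedPoint K))
      (by rw [← AlgSp.Points.ofPt_eq_map_ofScheme, hq, hz])
    exact ⟨w⟩
  have : IsIso (pullback.snd i.hom q) := AlgSpD.isIso_of_mono_to_field P (pullback.snd i.hom q)
  exact ⟨inv (pullback.snd i.hom q) ≫ pullback.fst i.hom q, by
    rw [Category.assoc, pullback.condition, IsIso.inv_hom_id_assoc]⟩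

/-- A morphism from a reduced space with image one point of a locally Noetherian space factors through
any monomorphism hitting that point. -/
theorem exists_factor {Y X Z : AlgSp.Space S} (f : Y ⟶ X) (x : AlgSp.Points X.obj)
    (hf : ∀ y : AlgSp.Points Y.obj, AlgSp.Points.map f.hom y = x)
    (hY : AlgSp.EtaleLocally (fun U => AlgebraicGeometry.IsReduced U) Y.obj) (hX : AlgSp.IsLocNoethSp X.obj)
    (i : Z ⟶ X) [Mono i.hom] (hi : x ∈ Set.range (AlgSp.Points.map i.hom)) :
    ∃ g : Y ⟶ Z, g ≫ i = f := by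
  obtain ⟨T, q, hq, hqs, hT⟩ := hY
  obtain ⟨U, a, ha, has⟩ := X.property.atlas
  haveI := Groth.Agent.AlgSp.isLocallyNoetherian_of_etale_chart a ha hX
  haveI : AlgebraicGeometry.IsReduced T.left := hT
  obtain ⟨R, fst, snd, sq⟩ := AlgSpB.exists_pullback_yon ha.1 (q ≫ f.hom)
  have hse : Etale snd.left := ha.2 _ _ _ sq
  have hss : Surjective snd.left := has.2 _ _ _ sq
  haveI : AlgebraicGeometry.IsReduced R.left := AlgSpB.isReduced_of_etale snd.left
  have hcls : ∀ r : ↥R.left, AlgSp.Points.ofPt a (fst.left r) = x := fun r => by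
    rw [← AlgSpB.ofPt_map_comp, sq.w, ← Category.assoc, ← AlgSp.Points.map_ofPt]
    exact hf _
  have hspec : ∀ r r' : ↥R.left, fst.left r ⤳ fst.left r' → fst.left r = fst.left r' := fun r r' h =>
    eq_of_specializes_of_ofPt_eq ha h ((hcls r).trans (hcls r').symm)
  choose V K j l hV hK hl using exists_open_factor fst.left hspec
  let W : ↥R.left → Over S := fun r => Over.mk ((V r).ι ≫ R.hom)
  let w : ∀ r, W r ⟶ R := fun r => Over.homMk (V r).ι rfl
  let g₀ : (AlgSp.yon S).obj R ⟶ X.obj := (AlgSp.yon S).map fst ≫ a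
  have hm : ∀ r, ∃ m : (AlgSp.yon S).obj (W r) ⟶ Z.obj, m ≫ i.hom = (AlgSp.yon S).map (w r) ≫ g₀ := by
    intro r
    letI := (hK r).toField
    let j' : Over.mk (j r ≫ U.hom) ⟶ U := Over.homMk (j r) rfl
    let l' : W r ⟶ Over.mk (j r ≫ U.hom) := Over.homMk (l r) (by
      show l r ≫ j r ≫ U.hom = (V r).ι ≫ R.hom
      rw [reassoc_of% (hl r), Over.w fst])
    have hcl : AlgSp.Points.ofPt ((AlgSp.yon S).map j' ≫ a) (IsLocalRing.closedPoint (K r)) = x := by
      refine (AlgSpB.ofPt_map_comp j' a _).trans ?_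
      have e : l r ⟨r, hV r⟩ = IsLocalRing.closedPoint (K r) :=
        @Subsingleton.elim _ (inferInstanceAs (Subsingleton (PrimeSpectrum (K r)))) _ _
      show AlgSp.Points.ofPt a (j r _) = x
      rw [← e, ← Scheme.Hom.comp_apply, hl r]
      exact hcls r
    obtain ⟨m, hm⟩ := exists_lift_fieldPt (K := K r) i hi (j r ≫ U.hom) ((AlgSp.yon S).map j' ≫ a) hcl
    refine ⟨(AlgSp.yon S).map l' ≫ m, ?_⟩
    rw [Category.assoc, hm, ← Category.assoc, ← Functor.map_comp, ← Category.assoc, ← Functor.map_comp]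
    congr 2
    ext1
    exact hl r
  choose m hm using hm
  obtain ⟨L, hL⟩ := Groth.Agent.AlgSp.InfGlue.exists_glue w (fun r => inferInstanceAs (Etale (V r).ι))
    (fun r => ⟨r, ⟨r, hV r⟩, rfl⟩) m (fun r r' A b c hbc => by
      rw [← cancel_mono i.hom, Category.assoc, Category.assoc, hm, hm, ← Functor.map_comp_assoc,
        hbc, Functor.map_comp_assoc])
  have hL' : L ≫ i.hom = g₀ :=
    Groth.Agent.AlgSp.InfGlue.hom_ext_cover w (fun r => inferInstanceAs (Etale (V r).ι))
      (fun r => ⟨r, ⟨r, hV r⟩, rfl⟩) _ _ fun r => by rw [← Category.assoc, hL, hm]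
  have : Sheaf.IsLocallySurjective q := Groth.Agent.AlgSp.isLocallySurjective_of_etale_surjective q hq hqs
  have hsnd : Sheaf.IsLocallySurjective ((AlgSp.yon S).map snd) :=
    Groth.Agent.AlgSp.isLocallySurjective_of_fppf_lift _ fun A g => by
      obtain ⟨φ, rfl⟩ := (AlgSp.yon S).map_surjective g
      have sq' := (IsPullback.of_hasPullback snd φ).map (Over.forget S)
      exact ⟨pullback snd φ, pullback.snd snd φ, (AlgSp.yon S).map (pullback.fst snd φ),
        MorphismProperty.of_isPullback (P := @Flat) sq' (show Flat snd.left from inferInstance),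
        MorphismProperty.of_isPullback (P := @Surjective) sq' hss,
        MorphismProperty.of_isPullback (P := @LocallyOfFinitePresentation) sq' (show LocallyOfFinitePresentation snd.left from inferInstance),
        by rw [← Functor.map_comp, ← Functor.map_comp, pullback.condition]⟩
  obtain ⟨L', hL''⟩ := AlgSpB.exists_factor_of_locallySurjective i.hom ((AlgSp.yon S).map snd) (q ≫ f.hom) L
    (hL'.trans sq.w)
  obtain ⟨L'', h⟩ := AlgSpB.exists_factor_of_locallySurjective i.hom q f.hom L' hL''
  exact ⟨ObjectProperty.homMk L'', ObjectProperty.hom_ext _ h⟩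

end Groth.Agent.ResFactor
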